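import Groth.Agent.UnivFinOpen.Alg
import Mathlib.AlgebraicGeometry.Morphisms.Finite
import Mathlib.AlgebraicGeometry.Morphisms.FinitePresentation

/-! the universal finite open of a quasi-finite morphism of affine schemes -/

set_option autoImplicit false
set_option maxHeartbeats 800000
set_option backward.isDefEq.respectTransparency false
set_option backward.isDefEq.respectTransparency.types false
set_option linter.style.haveILetI false

universe u

open CategoryTheory CategoryTheory.Limits AlgebraicGeometry TensorProduct Algebra.TensorProduct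

namespace Groth.Agent.UnivFinOpen

variable {X Y : Scheme.{u}} {f : X ⟶ Y} {A : Type u} [CommRing A] {C : Type u} [CommRing C] [Algebra A C]
  {ψ : Y ≅ Spec (CommRingCat.of A)} {j : X ⟶ Spec (CommRingCat.of C)}
  (hj : j ≫ Spec.map (CommRingCat.ofHom (algebraMap A C)) = f ≫ ψ.hom)
  {A' : Type u} [CommRing A'] [Algebra A A'] {Yp : Scheme.{u}} (ν : Yp ≅ Spec (CommRingCat.of A')) {b : Yp ⟶ Y}
  (hb : b ≫ ψ.hom = ν.hom ≫ Spec.map (CommRingCat.ofHom (algebraMap A A')))

/-- The comparison of a base change with the spectrum of the tensor product. -/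
noncomputable def J : pullback f b ⟶ Spec (CommRingCat.of (A' ⊗[A] C)) :=
  pullback.lift (pullback.snd f b ≫ ν.hom) (pullback.fst f b ≫ j) (by
    rw [Category.assoc, Category.assoc, hj, ← hb, pullback.condition_assoc]) ≫ (pullbackSpecIso A A' C).hom

theorem J_left : J hj ν hb ≫ Spec.map (CommRingCat.ofHom (includeLeftRingHom : A' →+* A' ⊗[A] C)) =
    pullback.snd f b ≫ ν.hom := by
  rw [J, Category.assoc, pullbackSpecIso_hom_fst, pullback.lift_fst]

theorem J_right : J hj ν hb ≫ Spec.map (CommRingCat.ofHom (includeRight : C →ₐ[A] A' ⊗[A] C).toRingHom) =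
    pullback.fst f b ≫ j := by
  rw [J, Category.assoc]
  erw [pullbackSpecIso_hom_snd]
  rw [pullback.lift_snd]

theorem isPullback_J : IsPullback (pullback.fst f b) (J hj ν hb) j
    (Spec.map (CommRingCat.ofHom (includeRight : C →ₐ[A] A' ⊗[A] C).toRingHom)) := by
  have hS : IsPullback (Spec.map (CommRingCat.ofHom (includeRight : C →ₐ[A] A' ⊗[A] C).toRingHom))
      (Spec.map (CommRingCat.ofHom (includeLeftRingHom : A' →+* A' ⊗[A] C)))
      (Spec.map (CommRingCat.ofHom (algebraMap A C))) (Spec.map (CommRingCat.ofHom (algebraMap A A'))) := by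
    refine ((IsPullback.of_hasPullback _ _).of_iso (pullbackSpecIso A A' C) (Iso.refl _) (Iso.refl _) (Iso.refl _)
      ?_ ?_ (by simp) (by simp)).flip
    · simp
    · simp [pullbackSpecIso_hom_snd]
  have hO : IsPullback (pullback.fst f b) (pullback.snd f b ≫ ν.hom) (j ≫ Spec.map (CommRingCat.ofHom (algebraMap A C)))
      (Spec.map (CommRingCat.ofHom (algebraMap A A'))) := by
    refine (IsPullback.of_hasPullback f b).of_iso (Iso.refl _) (Iso.refl _) ν ψ (by simp) (by simp) ?_ hb
    simp [hj]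
  rw [← J_left hj ν hb] at hO
  exact IsPullback.of_bot hO (J_right hj ν hb).symm hS

theorem mem_range_J [IsOpenImmersion j] (z : Spec (CommRingCat.of (A' ⊗[A] C))) :
    z ∈ Set.range (J hj ν hb) ↔
      Spec.map (CommRingCat.ofHom (includeRight : C →ₐ[A] A' ⊗[A] C).toRingHom) z ∈ Set.range j := by
  have h := (isPullback_J hj ν hb).flip
  have e : Set.range (J hj ν hb) = Set.range (pullback.fst (Spec.map (CommRingCat.ofHom (includeRight : C →ₐ[A] A' ⊗[A] C).toRingHom)) j) := by
    rw [← h.isoPullback_hom_fst, Scheme.Hom.comp_base, TopCat.coe_comp, Set.range_comp,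
      Set.range_eq_univ.2 (show Function.Surjective ⇑h.isoPullback.hom from h.isoPullback.hom.homeomorph.surjective), Set.image_univ]
  rw [e, Scheme.Pullback.range_fst]
  rfl

theorem J_naturality {A'' : Type u} [CommRing A''] [Algebra A A''] {Yq : Scheme.{u}} (μ : Yq ≅ Spec (CommRingCat.of A''))
    {a : Yq ⟶ Y} (ha : a ≫ ψ.hom = μ.hom ≫ Spec.map (CommRingCat.ofHom (algebraMap A A''))) (φ : A'' →ₐ[A] A')
    (c : Yp ⟶ Yq) (hc : c ≫ a = b) (hcμ : c ≫ μ.hom = ν.hom ≫ Spec.map (CommRingCat.ofHom φ.toRingHom)) :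
    pullback.map f b f a (𝟙 X) c (𝟙 Y) ((Category.comp_id f).trans (Category.id_comp f).symm)
      ((Category.comp_id b).trans hc.symm) ≫ J hj μ ha =
    J hj ν hb ≫ Spec.map (CommRingCat.ofHom (Algebra.TensorProduct.map φ (AlgHom.id A C)).toRingHom) := by
  have h1 : (Algebra.TensorProduct.map φ (AlgHom.id A C)).toRingHom.comp (includeLeftRingHom : A'' →+* A'' ⊗[A] C) =
      (includeLeftRingHom : A' →+* A' ⊗[A] C).comp φ.toRingHom := RingHom.ext fun x => by simp
  have h2 : (Algebra.TensorProduct.map φ (AlgHom.id A C)).toRingHom.comp (includeRight : C →ₐ[A] A'' ⊗[A] C).toRingHom =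
      (includeRight : C →ₐ[A] A' ⊗[A] C).toRingHom := RingHom.ext fun x => by simp
  have e1 : J hj μ ha ≫ (pullbackSpecIso A A'' C).inv =
      pullback.lift (pullback.snd f a ≫ μ.hom) (pullback.fst f a ≫ j)
        (by rw [Category.assoc, Category.assoc, hj, ← ha, pullback.condition_assoc]) := by
    rw [J, Category.assoc, Iso.hom_inv_id, Category.comp_id]
  have m1 : Spec.map (CommRingCat.ofHom (Algebra.TensorProduct.map φ (AlgHom.id A C)).toRingHom) ≫
      Spec.map (CommRingCat.ofHom (includeLeftRingHom : A'' →+* A'' ⊗[A] C)) =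
      Spec.map (CommRingCat.ofHom (includeLeftRingHom : A' →+* A' ⊗[A] C)) ≫
        Spec.map (CommRingCat.ofHom φ.toRingHom) := by
    rw [← Spec.map_comp, ← Spec.map_comp]
    exact congrArg (fun g => Spec.map (CommRingCat.ofHom g)) h1
  have m2 : Spec.map (CommRingCat.ofHom (Algebra.TensorProduct.map φ (AlgHom.id A C)).toRingHom) ≫
      Spec.map (CommRingCat.ofHom (includeRight : C →ₐ[A] A'' ⊗[A] C).toRingHom) =
      Spec.map (CommRingCat.ofHom (includeRight : C →ₐ[A] A' ⊗[A] C).toRingHom) := by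
    rw [← Spec.map_comp]
    exact congrArg (fun g => Spec.map (CommRingCat.ofHom g)) h2
  refine (cancel_mono (pullbackSpecIso A A'' C).inv).1 ?_
  rw [Category.assoc, e1]
  refine Eq.trans ?_ (Category.assoc _ _ _).symm
  refine pullback.hom_ext ?_ ?_
  · refine (Category.assoc _ _ _).trans ((congrArg (_ ≫ ·) (pullback.lift_fst _ _ _)).trans ?_)
    refine ((Category.assoc _ _ _).symm.trans ((congrArg (· ≫ μ.hom) (pullback.lift_snd _ _ _)).trans
      ((Category.assoc _ _ _).trans ?_)))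
    refine Eq.trans ?_ (((congrArg (J hj ν hb ≫ ·) ((congrArg (_ ≫ ·) (pullbackSpecIso_inv_fst A A'' C)).trans m1)).symm).trans
      (by simp only [Category.assoc]))
    rw [← Category.assoc (J hj ν hb), J_left, hcμ, Category.assoc]
  · refine (Category.assoc _ _ _).trans ((congrArg (_ ≫ ·) (pullback.lift_snd _ _ _)).trans ?_)
    refine ((Category.assoc _ _ _).symm.trans ((congrArg (· ≫ j) (pullback.lift_fst _ _ _)).trans
      ((Category.assoc _ _ _).trans ((congrArg (pullback.fst f b ≫ ·) (Category.id_comp j)).trans ?_))))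
    refine Eq.trans ?_ (((congrArg (J hj ν hb ≫ ·) ((congrArg (_ ≫ ·) (pullbackSpecIso_inv_snd A A'' C)).trans m2)).symm).trans
      (by simp only [Category.assoc]))
    exact (J_right hj ν hb).symm

theorem exists_universal {X Y : Scheme.{u}} (f : X ⟶ Y) [IsSeparated f] [CompactSpace X]
    {A C : Type u} [CommRing A] [CommRing C] [Algebra A C] [Module.Finite A C] [Module.FinitePresentation A C]
    (ψ : Y ≅ Spec (CommRingCat.of A)) (j : X ⟶ Spec (CommRingCat.of C)) [IsOpenImmersion j]
    (hj : j ≫ Spec.map (CommRingCat.ofHom (algebraMap A C)) = f ≫ ψ.hom) :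
    ∃ (Yu : Scheme.{u}) (a : Yu ⟶ Y) (Uu : (pullback f a).Opens), LocallyOfFinitePresentation a ∧ QuasiCompact a ∧
      QuasiSeparated a ∧ IsFinite (Uu.ι ≫ pullback.snd f a) ∧
      ∀ (Y' : Scheme.{u}) (b : Y' ⟶ Y) (U' : (pullback f b).Opens), IsAffine Y' → IsFinite (U'.ι ≫ pullback.snd f b) →
        ∃ (c : Y' ⟶ Yu) (hc : c ≫ a = b),
          (pullback.map f b f a (𝟙 X) c (𝟙 Y) ((Category.comp_id f).trans (Category.id_comp f).symm)
            ((Category.comp_id b).trans hc.symm)) ⁻¹ᵁ Uu = U' := by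
  classical
  obtain ⟨G, hG⟩ := PrimeSpectrum.isCompact_isOpen_iff.1 ⟨isCompact_range j.continuous, j.isOpenEmbedding.isOpen_range⟩
  obtain ⟨R, _, _, E, hR, hE, hEG, huniv⟩ := exists_idempotent (A := A) G
  let a : Spec (CommRingCat.of R) ⟶ Y := Spec.map (CommRingCat.ofHom (algebraMap A R)) ≫ ψ.inv
  have ha : a ≫ ψ.hom = (Iso.refl (Spec (CommRingCat.of R))).hom ≫ Spec.map (CommRingCat.ofHom (algebraMap A R)) := by
    simp [a]
  have hlfp : LocallyOfFinitePresentation (Spec.map (CommRingCat.ofHom (algebraMap A R))) :=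
    (HasRingHomProperty.Spec_iff (P := @LocallyOfFinitePresentation)).2 (RingHom.finitePresentation_algebraMap.2 hR)
  let Ju := J hj (Iso.refl _) ha
  have hDle : ∀ z : Spec (CommRingCat.of (R ⊗[A] C)), z ∈ PrimeSpectrum.basicOpen E → z ∈ Set.range Ju := fun z hz => by
    rw [mem_range_J, ← hG]
    intro hzG
    exact hz (Ideal.span_le.2 (by rintro _ ⟨l, hl, rfl⟩; exact hzG hl) hEG)
  haveI : IsOpenImmersion Ju := MorphismProperty.of_isPullback (isPullback_J hj _ ha) inferInstance
  let D : (Spec (CommRingCat.of (R ⊗[A] C))).Opens := PrimeSpectrum.basicOpen E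
  let Uu : (pullback f a).Opens := Ju ⁻¹ᵁ D
  refine ⟨_, a, Uu, inferInstance, inferInstance, inferInstance, ?_, fun Y' b U' hY' hU' => ?_⟩
  · haveI : IsClosedImmersion (Uu.ι ≫ Ju) := IsClosedImmersion.of_isPreimmersion _ (by
      rw [show Set.range (Uu.ι ≫ Ju) = (D : Set _) by
        ext z
        constructor
        · rintro ⟨⟨w, hw⟩, rfl⟩
          exact hw
        · intro hz
          obtain ⟨w, rfl⟩ := hDle z hz
          exact ⟨⟨w, hz⟩, rfl⟩]
      exact (PrimeSpectrum.isClopen_iff.2 ⟨E, hE, rfl⟩).isClosed)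
    haveI : IsFinite (Spec.map (CommRingCat.ofHom (includeLeftRingHom : R →+* R ⊗[A] C))) :=
      (IsFinite.SpecMap_iff _).2 (RingHom.finite_algebraMap.2 (inferInstance : Module.Finite R (R ⊗[A] C)))
    rw [show Uu.ι ≫ pullback.snd f a = (Uu.ι ≫ Ju) ≫ Spec.map (CommRingCat.ofHom (includeLeftRingHom : R →+* R ⊗[A] C)) by
      rw [Category.assoc, J_left]; simp]
    infer_instance
  · let ν := Y'.isoSpec
    letI : Algebra A Γ(Y', ⊤) := (Spec.preimage (ν.inv ≫ b ≫ ψ.hom)).hom.toAlgebra
    have hb : b ≫ ψ.hom = ν.hom ≫ Spec.map (CommRingCat.ofHom (algebraMap A Γ(Y', ⊤))) := by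
      rw [show CommRingCat.ofHom (algebraMap A Γ(Y', ⊤)) = Spec.preimage (ν.inv ≫ b ≫ ψ.hom) from rfl, Spec.map_preimage,
        Iso.hom_inv_id_assoc]
    let Jb := J hj ν hb
    haveI : IsOpenImmersion Jb := MorphismProperty.of_isPullback (isPullback_J hj _ hb) inferInstance
    have hcl : IsClopen (Jb '' (U' : Set ↑(pullback f b))) := by
      refine ⟨?_, Jb.isOpenEmbedding.isOpenMap _ U'.isOpen⟩
      haveI := hU'
      haveI : IsFinite ((U'.ι ≫ Jb) ≫ Spec.map (CommRingCat.ofHom (includeLeftRingHom : Γ(Y', ⊤) →+* Γ(Y', ⊤) ⊗[A] C))) := by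
        rw [Category.assoc, J_left, ← Category.assoc]
        infer_instance
      haveI : IsFinite (U'.ι ≫ Jb) := IsFinite.of_comp _ (Spec.map (CommRingCat.ofHom (includeLeftRingHom : Γ(Y', ⊤) →+* Γ(Y', ⊤) ⊗[A] C)))
      have hr : Set.range (U'.ι ≫ Jb) = Jb '' (U' : Set ↑(pullback f b)) := by
        rw [Scheme.Hom.comp_base, TopCat.coe_comp, Set.range_comp, Scheme.Opens.range_ι]
      rw [← hr]
      exact (U'.ι ≫ Jb).isClosedMap.isClosed_range
    obtain ⟨e, he, heU⟩ := PrimeSpectrum.isClopen_iff.1 hcl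
    have heG : e ∈ Ideal.span (includeRight '' (G : Set C) : Set (Γ(Y', ⊤) ⊗[A] C)) := by
      have : e ∈ (Ideal.span (includeRight '' (G : Set C) : Set (Γ(Y', ⊤) ⊗[A] C))).radical := by
        rw [← PrimeSpectrum.vanishingIdeal_zeroLocus_eq_radical, PrimeSpectrum.mem_vanishingIdeal]
        intro z hz
        by_contra hze
        obtain ⟨w, -, hw⟩ := heU.ge (show z ∈ PrimeSpectrum.basicOpen e from hze)
        have h1 := (mem_range_J hj ν hb z).1 ⟨w, hw⟩
        rw [← hG] at h1
        exact h1 fun l hl => hz (Ideal.subset_span ⟨l, hl, rfl⟩)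
      obtain ⟨n, hn⟩ := this
      rcases n with _ | n
      · rw [pow_zero] at hn
        exact Ideal.eq_top_iff_one _ |>.2 hn ▸ Submodule.mem_top
      · rwa [he.pow_succ_eq n] at hn
    obtain ⟨φ, hφ⟩ := huniv Γ(Y', ⊤) e he heG
    let c : Y' ⟶ Spec (CommRingCat.of R) := ν.hom ≫ Spec.map (CommRingCat.ofHom φ.toRingHom)
    have hc : c ≫ a = b := by
      rw [← cancel_mono ψ.hom, hb]
      simp only [c, a, Category.assoc, Iso.inv_hom_id, Category.comp_id]
      rw [← Spec.map_comp, ← CommRingCat.ofHom_comp]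
      exact congrArg (fun g => ν.hom ≫ Spec.map (CommRingCat.ofHom g)) φ.comp_algebraMap
    refine ⟨c, hc, TopologicalSpace.Opens.ext (Set.ext fun p => ?_)⟩
    have hnat := J_naturality hj ν hb (Iso.refl _) ha φ c hc (Category.comp_id c)
    have key : ∀ q, Jb q ∈ PrimeSpectrum.basicOpen e ↔ q ∈ U' := fun q =>
      (Set.ext_iff.1 heU (Jb q)).symm.trans Jb.isOpenEmbedding.injective.mem_set_image
    rw [SetLike.mem_coe, SetLike.mem_coe, ← key p, ← hφ]
    show Ju _ ∈ D ↔ _
    rw [← Scheme.Hom.comp_apply, hnat, Scheme.Hom.comp_apply]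
    rfl

end Groth.Agent.UnivFinOpen
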