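import Mathlib

/-! a universal idempotent in a finitely presented finite algebra -/

set_option autoImplicit false

universe u

open TensorProduct

namespace Groth.Agent.UnivFinOpen

theorem exists_sum_tmul {A B M : Type u} [CommRing A] [CommRing B] [Algebra A B] [AddCommGroup M] [Module A M]
    {m : ℕ} (f : (Fin m → A) →ₗ[A] M) (hf : Function.Surjective f) (z : B ⊗[A] M) :
    ∃ b : Fin m → B, z = ∑ j, b j ⊗ₜ[A] f (Pi.single j 1) := by
  classical
  induction z with
  | zero => exact ⟨0, by simp⟩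
  | tmul b x =>
    obtain ⟨v, rfl⟩ := hf x
    refine ⟨fun j => v j • b, ?_⟩
    conv_lhs => rw [show v = ∑ j, v j • (Pi.single j 1 : Fin m → A) from pi_eq_sum_univ' v]
    simp [TensorProduct.tmul_sum, TensorProduct.smul_tmul]
  | add x y hx hy =>
    obtain ⟨b, rfl⟩ := hx
    obtain ⟨c, rfl⟩ := hy
    exact ⟨b + c, by simp [TensorProduct.add_tmul, Finset.sum_add_distrib]⟩

/-- The condition that an element of a base change of a finitely presented module vanishes has a
weakly universal finitely presented solution. -/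
theorem exists_vanishing {A R M : Type u} [CommRing A] [CommRing R] [Algebra A R]
    [Algebra.FinitePresentation A R] [AddCommGroup M] [Module A M] [Module.FinitePresentation A M] (z : R ⊗[A] M) :
    ∃ (R' : Type u) (_ : CommRing R') (_ : Algebra A R') (q : R →ₐ[A] R'), Algebra.FinitePresentation A R' ∧
      q.toLinearMap.rTensor M z = 0 ∧
      ∀ (A' : Type u) [CommRing A'] [Algebra A A'] (φ : R →ₐ[A] A'), φ.toLinearMap.rTensor M z = 0 →
        ∃ ψ : R' →ₐ[A] A', ψ.comp q = φ := by
  classical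
  obtain ⟨m, k, f, g, hf, hfg⟩ := Module.FinitePresentation.exists_fin' A M
  obtain ⟨r, rfl⟩ := exists_sum_tmul f hf z
  let G : Fin k → Fin m → A := fun i => g (Pi.single i 1)
  let rel : Fin m → MvPolynomial (Fin k) R := fun j => MvPolynomial.C (r j) - ∑ i, G i j • MvPolynomial.X i
  let I : Ideal (MvPolynomial (Fin k) R) := Ideal.span (Set.range rel)
  have hI : I.FG := Submodule.fg_span (Set.finite_range rel)
  let π : MvPolynomial (Fin k) R →ₐ[A] MvPolynomial (Fin k) R ⧸ I := Ideal.Quotient.mkₐ A I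
  let q : R →ₐ[A] MvPolynomial (Fin k) R ⧸ I := π.comp (IsScalarTower.toAlgHom A R _)
  have hg : ∀ i, g (Pi.single i 1) = ∑ j, G i j • (Pi.single j 1 : Fin m → A) := fun i => pi_eq_sum_univ' _
  refine ⟨_, inferInstance, inferInstance, q, ?_, ?_, ?_⟩
  · haveI : Algebra.FinitePresentation R (MvPolynomial (Fin k) R ⧸ I) :=
      Algebra.FinitePresentation.quotient hI
    exact Algebra.FinitePresentation.trans A R _
  · have hq : ∀ j, q (r j) = ∑ i, G i j • π (MvPolynomial.X i) := fun j => by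
      have h : π (rel j) = 0 := Ideal.Quotient.eq_zero_iff_mem.2 (Ideal.subset_span ⟨j, rfl⟩)
      rw [map_sub, map_sum, sub_eq_zero] at h
      simp only [map_smul] at h
      exact h
    have h0 : ∀ i, f (g (Pi.single i 1)) = 0 := fun i => hfg.apply_apply_eq_zero _
    rw [map_sum]
    simp only [LinearMap.rTensor_tmul, AlgHom.toLinearMap_apply, hq, TensorProduct.sum_tmul]
    rw [Finset.sum_comm]
    refine Finset.sum_eq_zero fun i _ => ?_
    simp only [TensorProduct.smul_tmul, ← TensorProduct.tmul_sum]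
    rw [show (∑ x, G i x • f (Pi.single x 1)) = 0 by rw [← h0 i, hg i]; simp [map_sum]]
    exact TensorProduct.tmul_zero _ _
  · intro A' _ _ φ hφ
    let v : A' ⊗[A] (Fin m → A) := ∑ j, φ (r j) ⊗ₜ[A] Pi.single j 1
    have hv : f.lTensor A' v = 0 := by
      rw [← hφ, map_sum, map_sum]
      simp
    obtain ⟨w, hw⟩ := (lTensor_exact A' hfg hf v).1 hv
    obtain ⟨b, hb⟩ := exists_sum_tmul (LinearMap.id : (Fin k → A) →ₗ[A] _) (fun x => ⟨x, rfl⟩) w
    have hc : ∀ j, φ (r j) = ∑ i, G i j • b i := fun j => by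
      let e : A' ⊗[A] (Fin m → A) →ₗ[A] A' :=
        TensorProduct.lift ((LinearMap.lsmul A A').flip.compl₂ (LinearMap.proj j))
      have he : ∀ a x, e (a ⊗ₜ[A] x) = x j • a := fun a x => by simp [e]
      have h := congrArg e hw
      rw [hb, map_sum, map_sum] at h
      simp only [LinearMap.lTensor_tmul, LinearMap.id_apply, he] at h
      rw [map_sum] at h
      simp only [he, Pi.single_apply, ite_smul, one_smul, zero_smul, Finset.sum_ite_eq, Finset.mem_univ, if_true] at h
      exact h.symm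
    let θ : MvPolynomial (Fin k) R →ₐ[A] A' :=
      { MvPolynomial.eval₂Hom φ.toRingHom b with
        commutes' := fun a => by simp [IsScalarTower.algebraMap_apply A R (MvPolynomial (Fin k) R)] }
    have hθI : I ≤ RingHom.ker θ := by
      refine Ideal.span_le.2 ?_
      rintro _ ⟨j, rfl⟩
      show θ (rel j) = 0
      rw [map_sub, map_sum, sub_eq_zero]
      simp only [map_smul]
      have h1 : ∀ i, θ (MvPolynomial.X i) = b i := fun i => MvPolynomial.eval₂_X _ _ i
      simp only [h1]
      exact (MvPolynomial.eval₂_C _ _ _).trans (hc j)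
    refine ⟨Ideal.Quotient.liftₐ I θ fun a ha => hθI ha, AlgHom.ext fun x => ?_⟩
    exact MvPolynomial.eval₂_C _ _ _

theorem map_id_eq_rTensor {A R R' C : Type u} [CommRing A] [CommRing R] [CommRing R'] [CommRing C] [Algebra A R]
    [Algebra A R'] [Algebra A C] (φ : R →ₐ[A] R') (z : R ⊗[A] C) :
    Algebra.TensorProduct.map φ (AlgHom.id A C) z = φ.toLinearMap.rTensor C z := by
  induction z with
  | zero => simp
  | tmul r c => simp
  | add x y hx hy => simp [hx, hy]

theorem map_id_comp {A R R' R'' C : Type u} [CommRing A] [CommRing R] [CommRing R'] [CommRing R''] [CommRing C]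
    [Algebra A R] [Algebra A R'] [Algebra A R''] [Algebra A C] (φ : R →ₐ[A] R') (ψ : R' →ₐ[A] R'') (z : R ⊗[A] C) :
    Algebra.TensorProduct.map (ψ.comp φ) (AlgHom.id A C) z =
      Algebra.TensorProduct.map ψ (AlgHom.id A C) (Algebra.TensorProduct.map φ (AlgHom.id A C) z) := by
  induction z with
  | zero => simp
  | tmul r c => simp
  | add x y hx hy => simp [hx, hy]

/-- A weakly universal idempotent contained in a finitely generated ideal. -/
theorem exists_idempotent {A C : Type u} [CommRing A] [CommRing C] [Algebra A C] [Module.FinitePresentation A C]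
    (G : Finset C) :
    ∃ (R : Type u) (_ : CommRing R) (_ : Algebra A R) (E : R ⊗[A] C), Algebra.FinitePresentation A R ∧
      IsIdempotentElem E ∧ E ∈ Ideal.span (Algebra.TensorProduct.includeRight '' (G : Set C)) ∧
      ∀ (A' : Type u) [CommRing A'] [Algebra A A'] (e : A' ⊗[A] C), IsIdempotentElem e →
        e ∈ Ideal.span (Algebra.TensorProduct.includeRight '' (G : Set C)) →
        ∃ φ : R →ₐ[A] A', Algebra.TensorProduct.map φ (AlgHom.id A C) E = e := by
  classical
  obtain ⟨m, k, f, g, hf, -⟩ := Module.FinitePresentation.exists_fin' A C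
  let R₀ := MvPolynomial (Fin m ⊕ (G × Fin m)) A
  let E₀ : R₀ ⊗[A] C := ∑ j, MvPolynomial.X (Sum.inl j) ⊗ₜ[A] f (Pi.single j 1)
  let U : G → R₀ ⊗[A] C := fun l => ∑ j, MvPolynomial.X (Sum.inr (l, j)) ⊗ₜ[A] f (Pi.single j 1)
  let z₁ := E₀ * E₀ - E₀
  let z₂ := E₀ - ∑ l : G, U l * Algebra.TensorProduct.includeRight (R := A) (A := R₀) (l : C)
  obtain ⟨R₁, _, _, q₁, hfp₁, hz₁, hu₁⟩ := exists_vanishing (A := A) (R := R₀) z₁
  haveI := hfp₁
  obtain ⟨R₂, _, _, q₂, hfp₂, hz₂, hu₂⟩ := exists_vanishing (A := A) (R := R₁) (q₁.toLinearMap.rTensor C z₂)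
  let T := Algebra.TensorProduct.map (q₂.comp q₁) (AlgHom.id A C)
  refine ⟨R₂, inferInstance, inferInstance, T E₀, hfp₂, ?_, ?_, ?_⟩
  · have h : T z₁ = 0 := by
      simp only [T, map_id_comp]
      rw [map_id_eq_rTensor q₁, hz₁, map_zero]
    show T E₀ * T E₀ = T E₀
    rwa [map_sub, map_mul, sub_eq_zero] at h
  · have h : T z₂ = 0 := by
      simp only [T, map_id_comp]
      rw [map_id_eq_rTensor q₁, map_id_eq_rTensor q₂, hz₂]
    rw [map_sub, sub_eq_zero] at h
    rw [h, map_sum]
    refine sum_mem fun l _ => ?_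
    rw [map_mul]
    refine Ideal.mul_mem_left _ _ (Ideal.subset_span ⟨l, l.2, ?_⟩)
    simp [T]
  · intro A' _ _ e he hG
    obtain ⟨a, ha⟩ := exists_sum_tmul f hf e
    obtain ⟨c, hc⟩ : ∃ c : G → A' ⊗[A] C, e = ∑ l : G, c l * Algebra.TensorProduct.includeRight (l : C) := by
      refine Submodule.span_induction (fun x hx => ?_) ⟨0, by simp⟩ (fun x y _ _ hx hy => ?_) (fun r x _ hx => ?_) hG
      · obtain ⟨l, hl, rfl⟩ := hx
        refine ⟨Pi.single ⟨l, hl⟩ 1, ?_⟩
        rw [Finset.sum_eq_single ⟨l, hl⟩ (fun b _ hb => by simp [Pi.single_eq_of_ne hb]) (fun h => absurd (Finset.mem_univ _) h)]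
        simp
      · obtain ⟨c, rfl⟩ := hx
        obtain ⟨d, rfl⟩ := hy
        exact ⟨c + d, by simp [add_mul, Finset.sum_add_distrib]⟩
      · obtain ⟨c, rfl⟩ := hx
        exact ⟨fun l => r * c l, by simp [smul_eq_mul, Finset.mul_sum, mul_assoc]⟩
    choose b hb using fun l => exists_sum_tmul f hf (c l)
    let φ₀ : R₀ →ₐ[A] A' := MvPolynomial.aeval (Sum.elim a fun p => b p.1 p.2)
    let T₀ := Algebra.TensorProduct.map φ₀ (AlgHom.id A C)
    have hX : ∀ i, φ₀ (MvPolynomial.X i) = Sum.elim a (fun p => b p.1 p.2) i := fun i => MvPolynomial.aeval_X _ i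
    have hE : T₀ E₀ = e := by
      rw [ha, map_sum]
      simp [T₀, hX]
    have hU : ∀ l, T₀ (U l) = c l := fun l => by
      rw [hb l, map_sum]
      simp [T₀, hX]
    obtain ⟨φ₁, hφ₁⟩ := hu₁ A' φ₀ (by
      rw [← map_id_eq_rTensor]
      show T₀ z₁ = 0
      rw [map_sub, map_mul, hE, sub_eq_zero]
      exact he)
    obtain ⟨φ₂, hφ₂⟩ := hu₂ A' φ₁ (by
      rw [← map_id_eq_rTensor, ← map_id_eq_rTensor, ← map_id_comp, hφ₁]
      show T₀ z₂ = 0
      rw [map_sub, hE, sub_eq_zero, map_sum]
      simp only [map_mul, hU]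
      refine hc.trans (Finset.sum_congr rfl fun l _ => ?_)
      simp [T₀])
    refine ⟨φ₂, ?_⟩
    show Algebra.TensorProduct.map φ₂ (AlgHom.id A C) (Algebra.TensorProduct.map (q₂.comp q₁) (AlgHom.id A C) E₀) = e
    rw [← map_id_comp, ← AlgHom.comp_assoc, hφ₂, hφ₁]
    exact hE

end Groth.Agent.UnivFinOpen
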